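import Mathlib
import Cfsg.Prelude.Def_LocalStructure
import Cfsg.Agent.Linear.Card

set_option autoImplicit false
set_option linter.style.haveILetI false

namespace Cfsg.Agent.FGS4.NonClosed

open Cfsg

variable {p : ℕ} [hp : Fact p.Prime]

/-- A semidirect product `N ⋊ K` with `p ∤ |N|` and an element of `p`-power order acting
non-trivially is not `p`-closed. -/
theorem not_closed_semidirect {N K : Type} [Group N] [Group K] [Finite N] [Finite K]
    (φ : K →* MulAut N) (hN : ¬ p ∣ Nat.card N) (k : K) (hk : k ^ p = 1) (x : N)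
    (hx : φ k x ≠ x) : ¬ Cfsg.IsPClosed p (N ⋊[φ] K) := by
  intro hc
  haveI : Finite (N ⋊[φ] K) := Finite.of_equiv _ (SemidirectProduct.equivProd (φ := φ)).symm
  have hpg : IsPGroup p (Subgroup.zpowers (SemidirectProduct.inr k : N ⋊[φ] K)) :=
    IsPGroup.iff_orderOf.2 fun y => by
      have h1 : orderOf y ∣ p := by
        refine (orderOf_dvd_natCard y).trans ?_
        rw [Nat.card_zpowers]
        exact orderOf_dvd_of_pow_eq_one (by rw [← map_pow, hk, map_one])
      rcases (Nat.dvd_prime hp.out).1 h1 with h | h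
      · exact ⟨0, by rw [h, pow_zero]⟩
      · exact ⟨1, by rw [h, pow_one]⟩
  obtain ⟨P, hP⟩ := hpg.exists_le_sylow
  have hmem := hP (Subgroup.mem_zpowers (SemidirectProduct.inr k : N ⋊[φ] K))
  have h2 := (P : Subgroup (N ⋊[φ] K)).mul_mem
    ((hc P).conj_mem _ hmem (SemidirectProduct.inl x))
    ((P : Subgroup (N ⋊[φ] K)).inv_mem hmem)
  rw [show SemidirectProduct.inl x * SemidirectProduct.inr k * (SemidirectProduct.inl x)⁻¹ *
      (SemidirectProduct.inr k)⁻¹ = (SemidirectProduct.inl (x * φ k x⁻¹) : N ⋊[φ] K) by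
    rw [map_mul, SemidirectProduct.inl_aut, map_inv, map_inv]
    group] at h2
  obtain ⟨j, hj⟩ := IsPGroup.iff_orderOf.1 P.isPGroup'
    ⟨_, h2⟩
  have h3 : orderOf (x * φ k x⁻¹) = p ^ j := by
    rw [← hj, ← Subgroup.orderOf_coe, orderOf_injective _ SemidirectProduct.inl_injective]
  have h4 : x * φ k x⁻¹ = 1 := by
    rcases Nat.eq_zero_or_pos j with rfl | hj0
    · rwa [pow_zero, orderOf_eq_one_iff] at h3
    · exact absurd ((dvd_pow_self p hj0.ne').trans (h3 ▸ orderOf_dvd_natCard _)) hN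
  rw [map_inv, mul_inv_eq_one] at h4
  exact hx h4.symm

/-- The affine example. -/
theorem exists_affine {m : ℕ} (hm : IsPrimePow m) (hm1 : m % p = 1) :
    ∃ (H : Type) (_ : Group H) (_ : Finite H), Nat.card H = p * m ∧ ¬ Cfsg.IsPClosed p H := by
  classical
  obtain ⟨r, a, hr, ha, rfl⟩ := hm
  haveI : Fact r.Prime := ⟨hr.nat_prime⟩
  let F := GaloisField r a
  have hcard : Nat.card F = r ^ a := GaloisField.card r a ha.ne'
  haveI : Fintype Fˣ := Fintype.ofFinite _
  have hdvd : p ∣ Nat.card Fˣ := by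
    rw [Nat.card_units, hcard]
    exact ⟨r ^ a / p, by
      conv_lhs => rw [← Nat.mod_add_div (r ^ a) p, hm1, Nat.add_sub_cancel_left]⟩
  obtain ⟨u, hu⟩ := exists_prime_orderOf_dvd_card' p hdvd
  have hu1 : (u : Fˣ) ≠ 1 := by
    intro h
    rw [h, orderOf_one] at hu
    exact hp.out.one_lt.ne hu
  let φ : Subgroup.zpowers u →* MulAut (Multiplicative F) :=
    ((MulAutMultiplicative F).symm.toMonoidHom.comp
      ((DistribMulAction.toAddAut Fˣ F))).comp (Subgroup.zpowers u).subtype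
  haveI : Finite (Multiplicative F ⋊[φ] Subgroup.zpowers u) :=
    Finite.of_equiv _ (SemidirectProduct.equivProd (φ := φ)).symm
  refine ⟨Multiplicative F ⋊[φ] Subgroup.zpowers u, inferInstance, inferInstance, ?_, ?_⟩
  · rw [SemidirectProduct.card, Nat.card_zpowers, hu, mul_comm p]
    exact congrArg (· * p) hcard
  · refine not_closed_semidirect φ ?_ ⟨u, Subgroup.mem_zpowers u⟩ ?_ (Multiplicative.ofAdd (1 : F)) ?_
    · rw [show Nat.card (Multiplicative F) = r ^ a from hcard]
      intro h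
      obtain ⟨c, hc⟩ := h
      rw [hc, Nat.mul_mod_right] at hm1
      exact zero_ne_one hm1
    · exact Subtype.ext (show u ^ p = 1 from hu ▸ pow_orderOf_eq_one u)
    · intro h
      apply hu1
      have h' : (u : F) * 1 = 1 := congrArg Multiplicative.toAdd h
      rw [mul_one] at h'
      exact Units.ext h'

/-- The example `PSL(2,p)`. -/
theorem exists_psl (h5 : 5 ≤ p) :
    ∃ (H : Type) (_ : Group H) (_ : Finite H),
      Nat.card H = p * (p ^ 2 - 1) / 2 ∧ ¬ Cfsg.IsPClosed p H := by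
  classical
  haveI : NeZero p := ⟨hp.out.ne_zero⟩
  haveI hs : IsSimpleGroup (Matrix.ProjectiveSpecialLinearGroup (Fin 2) (ZMod p)) :=
    Matrix.ProjectiveSpecialLinearGroup.rank_two_simple
      (by rw [Nat.card_zmod]; omega)
  have hc := Cfsg.Agent.Linear.card_PSL_two (F := ZMod p)
  obtain ⟨k, hk⟩ := hp.out.odd_of_ne_two (by omega)
  rw [ZMod.card, show Nat.gcd 2 (p - 1) = 2 from
    Nat.gcd_eq_left ⟨k, by omega⟩] at hc
  have hkk : p ^ 2 - 1 = 4 * (k * (k + 1)) := by
    rw [hk, show (2 * k + 1) ^ 2 = 4 * (k * (k + 1)) + 1 by ring, Nat.add_sub_cancel]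
  have hcard : Nat.card (Matrix.ProjectiveSpecialLinearGroup (Fin 2) (ZMod p)) =
      p * (2 * (k * (k + 1))) := by
    rw [hkk, show p * (4 * (k * (k + 1))) = 2 * (p * (2 * (k * (k + 1)))) by ring] at hc
    omega
  refine ⟨Matrix.ProjectiveSpecialLinearGroup (Fin 2) (ZMod p), inferInstance, inferInstance,
    by omega, fun hclosed => ?_⟩
  obtain ⟨P⟩ := (inferInstance : Nonempty (Sylow p (Matrix.ProjectiveSpecialLinearGroup (Fin 2) (ZMod p))))
  rcases (hclosed P).eq_bot_or_eq_top with h | h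
  · exact Sylow.ne_bot_of_dvd_card P (hcard ▸ Dvd.intro _ rfl) h
  · obtain ⟨j, hj⟩ := IsPGroup.iff_card.1 P.isPGroup'
    rw [h, Subgroup.card_top, hcard] at hj
    have h2 : 2 ∣ p ^ j := hj ▸ Dvd.dvd.mul_left (Dvd.intro _ rfl) p
    have := (Nat.prime_dvd_prime_iff_eq Nat.prime_two hp.out).1 (Nat.prime_two.dvd_of_dvd_pow h2)
    omega

end Cfsg.Agent.FGS4.NonClosed
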