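import Mathlib
import Cfsg.Prelude.Def_LocalStructure
import Cfsg.Agent.S4700
import Cfsg.Agent.Linear.Card
import Cfsg.Agent.PLocal.ElemAb

set_option autoImplicit false
set_option linter.style.haveILetI false

namespace Cfsg.Agent.FGS4.NonClosed

open Cfsg

variable {p : ℕ} [hp : Fact p.Prime]

/-- `p`-closedness from one normal Sylow subgroup. -/
theorem closed_of_normal {H : Type*} [Group H] [Finite H] (P : Sylow p H)
    (h : (P : Subgroup H).Normal) : Cfsg.IsPClosed p H := by
  intro Q
  haveI := h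
  haveI := Sylow.unique_of_normal P h
  rwa [Subsingleton.elim Q P]

/-- A Sylow subgroup, normal in a normal subgroup containing it, is normal. -/
theorem normal_of_closed_normal {H : Type*} [Group H] [Finite H] (P : Sylow p H) (M : Subgroup H)
    [M.Normal] (hle : (P : Subgroup H) ≤ M) (hM : Cfsg.IsPClosed p M) : (P : Subgroup H).Normal := by
  haveI : ((P.subtype hle : Sylow p M) : Subgroup M).Normal := hM _
  haveI : ((P.subtype hle : Sylow p M) : Subgroup M).Characteristic :=
    Sylow.characteristic_of_normal _ inferInstance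
  have h2 : (((P.subtype hle : Sylow p M) : Subgroup M).map M.subtype).Normal :=
    ConjAct.normal_of_characteristic_of_normal
  rwa [Sylow.coe_subtype, Subgroup.map_subgroupOf_eq_of_le hle] at h2

/-- Lifting closedness along a quotient. -/
theorem sup_normal_of_closed_quot {H : Type*} [Group H] [Finite H] (P : Sylow p H) (N : Subgroup H)
    [N.Normal] (hq : Cfsg.IsPClosed p (H ⧸ N)) : ((P : Subgroup H) ⊔ N).Normal := by
  haveI := hq (P.mapSurjective (QuotientGroup.mk'_surjective N))
  have h : (((P : Subgroup H).map (QuotientGroup.mk' N)).comap (QuotientGroup.mk' N)).Normal := by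
    rw [← Sylow.coe_mapSurjective (QuotientGroup.mk'_surjective N) P]
    infer_instance
  rwa [Subgroup.comap_map_eq, QuotientGroup.ker_mk'] at h

/-- A group with a non-trivial normal `p`-subgroup and closed quotient is closed. -/
theorem closed_of_normal_pgroup {H : Type*} [Group H] [Finite H] (Q : Subgroup H) [Q.Normal]
    (hQ : IsPGroup p Q) (hq : Cfsg.IsPClosed p (H ⧸ Q)) : Cfsg.IsPClosed p H := by
  obtain ⟨P⟩ := (inferInstance : Nonempty (Sylow p H))
  have h := sup_normal_of_closed_quot P Q hq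
  rw [P.is_maximal' (P.isPGroup'.to_sup_of_normal_right hQ) le_sup_left] at h
  exact closed_of_normal P h

/-- The number of Sylow subgroups of a non-closed group. -/
theorem card_sylow {H : Type*} [Group H] [Finite H] (hH : ¬ Cfsg.IsPClosed p H) :
    Nat.card (Sylow p H) % p = 1 ∧ p + 1 ≤ Nat.card (Sylow p H) := by
  have h1 : Nat.card (Sylow p H) % p = 1 := by
    have := card_sylow_modEq_one p H
    rwa [Nat.ModEq, Nat.one_mod_eq_one.2 hp.out.ne_one] at this
  refine ⟨h1, ?_⟩
  by_contra hlt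
  have h3 : Nat.card (Sylow p H) = 1 := by
    rcases lt_or_eq_of_le (show Nat.card (Sylow p H) ≤ p by omega) with h | h
    · rwa [Nat.mod_eq_of_lt h] at h1
    · rw [h, Nat.mod_self] at h1
      exact absurd h1 zero_ne_one
  refine hH fun P => ?_
  rw [← Subgroup.normalizer_eq_top_iff, ← Subgroup.index_eq_one]
  exact P.card_eq_index_normalizer.symm.trans h3

/-- Order as number of Sylow subgroups times the normalizer. -/
theorem card_eq_mul {H : Type*} [Group H] [Finite H] (P : Sylow p H) :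
    Nat.card H = Nat.card (Sylow p H) * Nat.card (Subgroup.normalizer ((P : Subgroup H) : Set H)) := by
  rw [show Nat.card (Sylow p H) = (Subgroup.normalizer ((P : Subgroup H) : Set H)).index from
    P.card_eq_index_normalizer, mul_comm, Subgroup.card_mul_index]

/-- The simple case. -/
theorem simple_bound (hp2 : p ≠ 2) {H : Type} [Group H] [Finite H] [IsSimpleGroup H]
    (hH : ¬ Cfsg.IsPClosed p H) : p * (p ^ 2 - 1) / 2 ≤ Nat.card H := by
  classical
  obtain ⟨P⟩ := (inferInstance : Nonempty (Sylow p H))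
  have hp3 : 3 ≤ p := by have := hp.out.two_le; omega
  obtain ⟨hmod, hge⟩ := card_sylow hH
  have hcard := card_eq_mul P
  have hN0 : Nat.card (P : Subgroup H) ≤ Nat.card (Subgroup.normalizer ((P : Subgroup H) : Set H)) :=
    Subgroup.card_le_of_le Subgroup.le_normalizer
  have hP1 : (P : Subgroup H) ≠ ⊥ := by
    intro h
    exact hH (closed_of_normal P (by rw [h]; infer_instance))
  obtain ⟨a, ha⟩ := IsPGroup.iff_card.1 P.isPGroup'
  have ha0 : a ≠ 0 := by
    intro h
    rw [h, pow_zero] at ha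
    exact hP1 ((Subgroup.card_eq_one).1 ha)
  by_cases ha2 : 2 ≤ a
  · have h1 : p ^ 2 ≤ Nat.card (P : Subgroup H) := by
      rw [ha]; exact Nat.pow_le_pow_right (by omega) ha2
    have h2 : (p + 1) * p ^ 2 ≤ Nat.card H := by
      rw [hcard]; exact Nat.mul_le_mul hge (h1.trans hN0)
    have h3 : p * (p ^ 2 - 1) ≤ p * p ^ 2 := Nat.mul_le_mul_left _ (Nat.sub_le _ _)
    have h4 : (p + 1) * p ^ 2 = p * p ^ 2 + p ^ 2 := by ring
    omega
  have hPp : Nat.card P = p := by
    rw [ha, show a = 1 by omega, pow_one]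
  have hperf : commutator H = ⊤ := by
    refine ((inferInstance : (commutator H).Normal).eq_bot_or_eq_top).resolve_left fun hbot => ?_
    refine hH fun Q => ⟨fun x hx g => ?_⟩
    have : g * x * g⁻¹ * x⁻¹ = 1 := by
      rw [← Subgroup.mem_bot, ← hbot]
      exact Subgroup.commutator_mem_commutator (Subgroup.mem_top g) (Subgroup.mem_top x)
    rwa [mul_inv_eq_one.1 this]
  obtain ⟨n, hn⟩ : ∃ n, Nat.card (Sylow p H) = 1 + n * p :=
    ⟨Nat.card (Sylow p H) / p, by
      conv_lhs => rw [← Nat.mod_add_div (Nat.card (Sylow p H)) p, hmod, mul_comm]⟩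
  rcases Cfsg.Agent.S4700.result hperf p P hPp n hn with
    ⟨F, _, _, hF, -, ⟨e⟩⟩ | ⟨m, F, _, _, hF, hpm, h3, ⟨e⟩⟩ | ⟨h, u, hh, hu, heq⟩
  · have h1 : Nat.card (H ⧸ Cfsg.pPrimeCore p H) ≤ Nat.card H :=
      Nat.card_le_card_of_surjective _ QuotientGroup.mk_surjective
    have h2 := Cfsg.Agent.Linear.card_PSL_two (F := F)
    rw [hF] at h2
    have h3 : Nat.gcd 2 (p - 1) ≤ 2 := Nat.le_of_dvd (by omega) (Nat.gcd_dvd_left _ _)
    have h4 : Nat.gcd 2 (p - 1) * Nat.card (Matrix.ProjectiveSpecialLinearGroup (Fin 2) F) ≤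
        2 * Nat.card (Matrix.ProjectiveSpecialLinearGroup (Fin 2) F) := Nat.mul_le_mul_right _ h3
    rw [Nat.card_congr e.toEquiv] at h1
    omega
  · have h1 : Nat.card (H ⧸ Cfsg.pPrimeCore p H) ≤ Nat.card H :=
      Nat.card_le_card_of_surjective _ QuotientGroup.mk_surjective
    have h2 := Cfsg.Agent.Linear.card_SL_two (F := F)
    rw [Nat.card_congr e.toEquiv, h2, hF] at h1
    have hp5 : 5 ≤ p := by
      rcases Nat.lt_or_ge p 5 with h | h
      · interval_cases p
        exact absurd hp.out (by norm_num)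
      · exact h
    obtain ⟨q, hq⟩ : ∃ q, 2 ^ m = q := ⟨_, rfl⟩
    rw [hq] at h1 hpm
    subst hpm
    have h3 : (q + 1) ^ 2 - 1 = q * (q + 2) := by
      rw [show (q + 1) ^ 2 = q * (q + 2) + 1 by ring, Nat.add_sub_cancel]
    have h4 : 1 ≤ q ^ 2 := Nat.one_le_pow _ _ (by omega)
    rw [h3]
    have h5 : (q + 1) * (q + 2) ≤ 2 * (q ^ 2 - 1) := by
      zify [h4]
      nlinarith
    have h6 : (q + 1) * (q * (q + 2)) ≤ 2 * (q * (q ^ 2 - 1)) := by
      calc (q + 1) * (q * (q + 2)) = q * ((q + 1) * (q + 2)) := by ring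
        _ ≤ q * (2 * (q ^ 2 - 1)) := Nat.mul_le_mul_left _ h5
        _ = _ := by ring
    omega
  · have h1 : p + 3 ≤ 2 * n := by
      by_contra hlt
      push Not at hlt
      nlinarith [Nat.mul_le_mul_left u (show 1 ≤ h from hh), Nat.mul_le_mul hh (show 1 ≤ u from hu)]
    have h2 : p * (p + 3) + 2 ≤ 2 * Nat.card (Sylow p H) := by
      rw [hn]
      nlinarith
    have h3 : p * Nat.card (Sylow p H) ≤ Nat.card H := by
      rw [hcard, mul_comm]
      exact Nat.mul_le_mul_left _ (hPp.symm.le.trans hN0)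
    have h4 : p * (p * (p + 3) + 2) ≤ 2 * Nat.card H := by
      calc p * (p * (p + 3) + 2) ≤ p * (2 * Nat.card (Sylow p H)) := Nat.mul_le_mul_left _ h2
        _ = 2 * (p * Nat.card (Sylow p H)) := by ring
        _ ≤ _ := Nat.mul_le_mul_left _ h3
    have h5 : p * (p ^ 2 - 1) ≤ p * (p * (p + 3) + 2) := by
      refine Nat.mul_le_mul_left _ ?_
      have : p ^ 2 ≤ p * (p + 3) + 2 := by nlinarith
      omega
    omega

/-- A group all whose proper subgroups are closed, with closed proper quotients and a proper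
non-trivial normal subgroup. -/
theorem nonsimple_bound {m : ℕ}
    (hleast : ∀ k : ℕ, IsPrimePow k → k % p = 1 → m ≤ k) {H : Type} [Group H] [Finite H]
    (hH : ¬ Cfsg.IsPClosed p H) (hsub : ∀ K : Subgroup H, K ≠ ⊤ → Cfsg.IsPClosed p K)
    (hquot : ∀ (K : Subgroup H) [K.Normal], K ≠ ⊥ → Cfsg.IsPClosed p (H ⧸ K))
    (N : Subgroup H) [N.Normal] (hNb : N ≠ ⊥) (hNt : N ≠ ⊤) : p * m ≤ Nat.card H := by
  classical
  obtain ⟨P⟩ := (inferInstance : Nonempty (Sylow p H))
  have hnotnormal : ¬ (P : Subgroup H).Normal := fun h => hH (closed_of_normal P h)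
  have hsup : (P : Subgroup H) ⊔ N = ⊤ := by
    by_contra hne
    haveI := sup_normal_of_closed_quot P N (hquot N hNb)
    exact hnotnormal (normal_of_closed_normal P _ le_sup_left (hsub _ hne))
  have hcop : ¬ p ∣ Nat.card N := by
    intro hdvd
    obtain ⟨Q⟩ := (inferInstance : Nonempty (Sylow p N))
    haveI : (Q : Subgroup N).Normal := hsub N hNt Q
    haveI : (Q : Subgroup N).Characteristic := Sylow.characteristic_of_normal _ inferInstance
    haveI : ((Q : Subgroup N).map N.subtype).Normal := ConjAct.normal_of_characteristic_of_normal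
    refine hH (closed_of_normal_pgroup ((Q : Subgroup N).map N.subtype) (Q.isPGroup'.map _)
      (hquot _ ?_))
    rw [Ne, Subgroup.map_eq_bot_iff_of_injective _ N.subtype_injective]
    exact Sylow.ne_bot_of_dvd_card Q hdvd
  obtain ⟨a, ha⟩ := IsPGroup.iff_card.1 P.isPGroup'
  have hcardH : Nat.card H = p ^ a * Nat.card N := by
    have hdis : (P : Subgroup H) ⊓ N = ⊥ :=
      disjoint_iff.1 (Subgroup.disjoint_of_coprime_natCard
        (ha ▸ (hp.out.coprime_iff_not_dvd.2 hcop).pow_left a))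
    have h := Core.card_sup_mul_card_inf (P : Subgroup H) N
    rw [hsup, hdis, Subgroup.card_top, Subgroup.card_bot, mul_one, ha] at h
    exact h
  have hfix : ∀ r : ℕ, r.Prime → r ∣ Nat.card N → ∃ R : Subgroup H,
      (∃ b, Nat.card R = r ^ b) ∧ r ^ (Nat.card N).factorization r ∣ Nat.card R ∧
        (P : Subgroup H) ≤ Subgroup.normalizer (R : Set H) := by
    intro r hr hrN
    haveI : Fact r.Prime := ⟨hr⟩
    have hnd : ¬ p ∣ Nat.card (Sylow r N) := by
      obtain ⟨R0⟩ := (inferInstance : Nonempty (Sylow r N))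
      rw [R0.card_eq_index_normalizer]
      exact fun h => hcop (h.trans (Subgroup.index_dvd_card _))
    letI : MulAction (P : Subgroup H) (Sylow r N) :=
      MulAction.compHom (Sylow r N) ((MulAut.conjNormal (H := N)).comp (P : Subgroup H).subtype)
    obtain ⟨R, hR⟩ := P.isPGroup'.nonempty_fixed_point_of_prime_not_dvd_card (Sylow r N) hnd
    refine ⟨(R : Subgroup N).map N.subtype, ?_, ?_, fun x hx => ?_⟩
    · obtain ⟨b, hb⟩ := IsPGroup.iff_card.1 R.isPGroup'
      exact ⟨b, by rw [Subgroup.card_map_of_injective N.subtype_injective, hb]⟩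
    · rw [Subgroup.card_map_of_injective N.subtype_injective, R.card_eq_multiplicity]
    · have key : ∀ y : (P : Subgroup H), ∀ n : N, n ∈ (R : Subgroup N) →
          MulAut.conjNormal (y : H) n ∈ (R : Subgroup N) := by
        intro y n hn
        have hR' : (MulAut.conjNormal (H := N) (y : H)) • R = R := by
          have h := hR y
          exact h
        rw [← hR', Sylow.pointwise_smul_def]
        exact Subgroup.smul_mem_pointwise_smul n _ _ hn
      rw [Subgroup.mem_normalizer_iff]
      intro z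
      constructor
      · rintro ⟨n, hn, rfl⟩
        exact ⟨MulAut.conjNormal x n, key ⟨x, hx⟩ n hn, MulAut.conjNormal_apply x n⟩
      · rintro ⟨n, hn, hnz⟩
        refine ⟨MulAut.conjNormal x⁻¹ n, key ⟨x⁻¹, inv_mem hx⟩ n hn, ?_⟩
        change ((MulAut.conjNormal x⁻¹ n : N) : H) = z
        rw [MulAut.conjNormal_apply]
        change (n : H) = x * z * x⁻¹ at hnz
        rw [hnz]
        group
  have hex : ∃ r : ℕ, r.Prime ∧ ∃ b, Nat.card H = p ^ a * r ^ b := by
    by_contra hno
    apply hnotnormal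
    rw [← Subgroup.normalizer_eq_top_iff]
    apply Subgroup.eq_top_of_card_eq
    refine Nat.dvd_antisymm (Subgroup.card_subgroup_dvd_card _) ?_
    rw [hcardH]
    refine Nat.Coprime.mul_dvd_of_dvd_of_dvd
      ((hp.out.coprime_iff_not_dvd.2 hcop).pow_left a) ?_ ?_
    · rw [← ha]
      exact Subgroup.card_dvd_of_le Subgroup.le_normalizer
    rw [Nat.dvd_iff_prime_pow_dvd_dvd]
    intro r k hr hk
    rcases Nat.eq_zero_or_pos k with rfl | hk0
    · simp
    obtain ⟨R, ⟨b, hRb⟩, hRdvd, hPR⟩ := hfix r hr ((dvd_pow_self r hk0.ne').trans hk)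
    have hprod : Nat.card ↥((P : Subgroup H) ⊔ R) ∣ p ^ a * r ^ b := by
      have h' : Nat.card ↥((P : Subgroup H) ⊔ R) * Nat.card ↥((P : Subgroup H) ⊓ R) =
          Nat.card (P : Subgroup H) * Nat.card R :=
        PLocal.card_sup_mul_card_inf hPR
      rw [ha, hRb] at h'
      exact ⟨_, h'.symm⟩
    have hne : (P : Subgroup H) ⊔ R ≠ ⊤ := by
      intro htop
      rw [htop, Subgroup.card_top] at hprod
      refine hno ⟨r, hr, ?_⟩
      rw [hcardH] at hprod
      obtain ⟨c, -, hc⟩ := (Nat.dvd_prime_pow hr).1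
        (Nat.dvd_of_mul_dvd_mul_left (pow_pos hp.out.pos a) hprod)
      exact ⟨c, by rw [hcardH, hc]⟩
    have hn := hsub _ hne (P.subtype le_sup_left)
    rw [Sylow.coe_subtype, Subgroup.normal_subgroupOf_iff_le_normalizer le_sup_left] at hn
    exact ((Nat.pow_dvd_pow r ((hr.pow_dvd_iff_le_factorization Nat.card_pos.ne').1 hk)).trans
      hRdvd).trans (Subgroup.card_dvd_of_le (le_sup_right.trans hn))
  obtain ⟨r, hr, b, hb⟩ := hex
  obtain ⟨hmod, hge⟩ := card_sylow hH
  have hdvd : Nat.card (Sylow p H) ∣ r ^ b := by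
    refine Nat.Coprime.dvd_of_dvd_mul_left (m := p ^ a) ?_ ?_
    · refine Nat.Coprime.pow_right a (Nat.Coprime.symm (hp.out.coprime_iff_not_dvd.2 fun h => ?_))
      obtain ⟨c, hc⟩ := h
      rw [hc, Nat.mul_mod_right] at hmod
      exact zero_ne_one hmod
    · rw [← hb]
      exact Dvd.intro _ (card_eq_mul P).symm
  have hpp : IsPrimePow (Nat.card (Sylow p H)) := by
    obtain ⟨c, -, hc⟩ := (Nat.dvd_prime_pow hr).1 hdvd
    rw [hc]
    refine hr.isPrimePow.pow ?_
    rintro rfl
    simp only [pow_zero] at hc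
    have := hp.out.pos
    omega
  have hm := hleast _ hpp hmod
  have hP : p ≤ Nat.card (P : Subgroup H) := by
    rw [ha]
    refine Nat.le_self_pow ?_ p
    rintro rfl
    rw [pow_zero] at ha
    rw [Subgroup.card_eq_one] at ha
    exact hnotnormal (by rw [ha]; infer_instance)
  rw [card_eq_mul P, mul_comm p m]
  exact Nat.mul_le_mul hm (hP.trans (Subgroup.card_le_of_le Subgroup.le_normalizer))

/-- The lower bound. -/
theorem lower (hp2 : p ≠ 2) {m : ℕ} (hleast : ∀ k : ℕ, IsPrimePow k → k % p = 1 → m ≤ k) :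
    ∀ (n : ℕ) (H : Type) [Group H] [Finite H], Nat.card H = n → ¬ Cfsg.IsPClosed p H →
      min (p * m) (p * (p ^ 2 - 1) / 2) ≤ Nat.card H := by
  intro n
  induction n using Nat.strong_induction_on with
  | _ n ih =>
  intro H _ _ hn hH
  by_cases hsub : ∀ K : Subgroup H, K ≠ ⊤ → Cfsg.IsPClosed p K
  swap
  · push Not at hsub
    obtain ⟨K, hK, hKc⟩ := hsub
    have hlt : Nat.card K < Nat.card H := by
      refine lt_of_le_of_ne (Nat.le_of_dvd Nat.card_pos (Subgroup.card_subgroup_dvd_card K))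
        fun h => hK (Subgroup.eq_top_of_card_eq _ h)
    exact (ih _ (hn ▸ hlt) K rfl hKc).trans hlt.le
  by_cases hquot : ∀ (K : Subgroup H) [K.Normal], K ≠ ⊥ → Cfsg.IsPClosed p (H ⧸ K)
  swap
  · push Not at hquot
    obtain ⟨K, hKn, hK, hKc⟩ := hquot
    have hlt : Nat.card (H ⧸ K) < Nat.card H := by
      rw [← Subgroup.index_mul_card K]
      exact lt_mul_of_one_lt_right Nat.card_pos ((Subgroup.one_lt_card_iff_ne_bot K).2 hK)
    exact (ih _ (hn ▸ hlt) (H ⧸ K) rfl hKc).trans hlt.le
  by_cases hN : ∃ N : Subgroup H, N.Normal ∧ N ≠ ⊥ ∧ N ≠ ⊤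
  · obtain ⟨N, hNn, hNb, hNt⟩ := hN
    exact (min_le_left _ _).trans (nonsimple_bound hleast hH hsub hquot N hNb hNt)
  · haveI : Nontrivial H := by
      by_contra h
      rw [not_nontrivial_iff_subsingleton] at h
      exact hH fun P => ⟨fun x hx g => by rwa [Subsingleton.elim (g * x * g⁻¹) x]⟩
    haveI : IsSimpleGroup H := ⟨fun N hNn => by
      by_contra h
      push Not at h
      exact hN ⟨N, hNn, h.1, h.2⟩⟩
    exact (min_le_right _ _).trans (simple_bound hp2 hH)

end Cfsg.Agent.FGS4.NonClosed
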